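import Cfsg.Agent.H89.Cov.Forms
import Cfsg.Agent.H659.CovCore

/-!
# S2499 (normal 2-coverings): irreducible proper subgroups of `SU(f)` with an element of large primitive order
-/

set_option autoImplicit false
set_option linter.unusedSectionVars false

namespace Cfsg.Agent.H89.Cov

open Cfsg Cfsg.Geo Matrix Cfsg.Agent.H278.Cov
open scoped MatrixGroups

universe u

/-- the outcome of `S5948` for a proper subgroup of `SU(f)` : only extension field groups -/
theorem ext_of_outcome {ι : Type} [Fintype ι] [DecidableEq ι] {F : Type u} [Field F] [Finite F] {d : ℕ}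
    (hn : 5 ≤ Fintype.card ι) {σ : F ≃+* F} {f : (ι → F) → (ι → F) → F} (hf : IsUnitaryForm σ f)
    {H : Subgroup (GL ι F)} (hfix : FixesForm (matrixSet H) f)
    (hne : ∃ x : GL ι F, FixesForm {(x : Matrix ι ι F)} f ∧ Matrix.GeneralLinearGroup.det x = 1 ∧ x ∉ H)
    (h : Ext d H ∨ specialLinear ι F ≤ H ∨
      (∃ f : (ι → F) → (ι → F) → F, IsSymplecticForm f ∧ ∀ x : GL ι F, FixesForm {(x : Matrix ι ι F)} f → x ∈ H) ∨
      (∃ (τ : F ≃+* F) (f : (ι → F) → (ι → F) → F), IsUnitaryForm τ f ∧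
        ∀ x : GL ι F, FixesForm {(x : Matrix ι ι F)} f → Matrix.GeneralLinearGroup.det x = 1 → x ∈ H) ∨
      (∃ Q : (ι → F) → F, IsNondegenerateQuadraticForm Q ∧ omegaGL Q ≤ H)) : Ext d H := by
  have hone : Nonempty ι := Fintype.card_pos_iff.1 (by omega)
  have hmem : ∀ x ∈ H, FixesForm {(x : Matrix ι ι F)} f := fun x hx =>
    fixesForm_singleton.2 fun u v => hfix _ ⟨x, hx, rfl⟩ u v
  rcases h with h | h | ⟨f', hf', h⟩ | ⟨τ, f', hf', h⟩ | ⟨Q, hQ, h⟩
  · exact h
  · exfalso
    refine H905.not_sl_le_similarityGroup_unitary (by omega) hf fun x hx => ?_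
    refine ⟨1, fun u v => ?_⟩
    rw [Units.val_one, one_mul]
    exact fixesForm_singleton.1 (hmem x (h hx)) u v
  · exact (symp_unit_false hf hf' fun x hx => hmem x (h x hx)).elim
  · exfalso
    have hτ : τ = σ := aut_unique hf'.ne_refl hf'.involutive hf.ne_refl hf.involutive
    subst hτ
    obtain ⟨c, hc0, hc⟩ := unit_prop (by omega) hf hf' fun x hx hd => hmem x (h x hx hd)
    obtain ⟨x, hx, hd, hxH⟩ := hne
    refine hxH (h x (fixesForm_singleton.2 fun u v => ?_) hd)
    have h1 := fixesForm_singleton.1 hx u v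
    rw [hc, hc] at h1
    exact mul_left_cancel₀ hc0 h1
  · exact (omega_unit_false hn hf hQ fun g hg => hmem g (h hg)).elim

/-- **OG-SU** (`F` has `q ^ 2` elements; here `k` is odd); `hP` is the text of `S5948`. -/
theorem og_su (hP : H659.CovCore.S5948Stmt.{u}) {ι : Type} [Fintype ι] [DecidableEq ι] {F : Type u} [Field F]
    [Fintype F] {k q : ℕ} (_hF : Fintype.card F = q ^ 2) {σ : F ≃+* F} {f : (ι → F) → (ι → F) → F}
    (hf : IsUnitaryForm σ f) {H : Subgroup (GL ι F)} (hfix : FixesForm (matrixSet H) f)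
    (_hdet : ∀ x ∈ H, Matrix.GeneralLinearGroup.det x = 1)
    (hne : ∃ x : GL ι F, FixesForm {(x : Matrix ι ι F)} f ∧ Matrix.GeneralLinearGroup.det x = 1 ∧ x ∉ H)
    {g : GL ι F} (hg : g ∈ H) (hnum : Num (Fintype.card F) (Fintype.card ι) k (orderOf g)) :
    Red H ∨ Ext (Nat.gcd (Fintype.card ι) k) H := by
  by_cases hred : Red H
  · exact Or.inl hred
  · exact Or.inr (ext_of_outcome (by have := hnum.ten; omega) hf hfix hne
      (H659.CovCore.core hP hg hnum hred))

end Cfsg.Agent.H89.Cov
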