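import Cfsg.Agent.H929.SimU
import Cfsg.Agent.H925.OrthBasic
import Cfsg.Agent.LieRecognition.FieldSemilinear

/-!
# S2499 (normal 2-coverings): isometry groups of other forms inside the isometry group of a unitary form

* `symp_unit_false`  : the isometries of a symplectic form do not all preserve a unitary form;
* `omega_unit_false` : `Ω` of a quadratic form in dimension at least five does not preserve a unitary form;
* `unit_prop`        : if the determinant-one isometries of a unitary form preserve another one, the two are proportional;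
* `aut_unique`       : the automorphism of order two of a finite field is unique.
-/

set_option autoImplicit false
set_option linter.unusedSectionVars false

namespace Cfsg.Agent.H89.Cov

open Cfsg Cfsg.Geo Matrix QuadraticMap Cfsg.Agent.H929 Cfsg.Agent.H873 Cfsg.Agent.H925
open Cfsg.Agent.LieClassical.OrthTrans
open scoped MatrixGroups

/-- the automorphism of order two of a finite field is unique -/
theorem aut_unique {F : Type*} [Field F] [Finite F] {σ τ : F ≃+* F} (h1 : σ ≠ RingEquiv.refl F)
    (h2 : ∀ x, σ (σ x) = x) (h3 : τ ≠ RingEquiv.refl F) (h4 : ∀ x, τ (τ x) = x) : σ = τ := by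
  classical
  by_contra hne
  have hc : IsCyclic (F ≃+* F) := LieRecognition.FieldSemilinear.isCyclic_ringAut F
  have hfin : Finite (F ≃+* F) := Finite.of_injective (fun σ : F ≃+* F => (σ : F → F)) DFunLike.coe_injective
  have : Fintype (F ≃+* F) := Fintype.ofFinite _
  have h5 := IsCyclic.card_pow_eq_one_le (α := F ≃+* F) (n := 2) (by norm_num)
  have h6 : ({1, σ, τ} : Finset (F ≃+* F)) ⊆ Finset.univ.filter fun a : F ≃+* F => a ^ 2 = 1 := by
    intro a ha
    simp only [Finset.mem_insert, Finset.mem_singleton] at ha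
    rw [Finset.mem_filter]
    refine ⟨Finset.mem_univ _, ?_⟩
    rcases ha with rfl | rfl | rfl
    · exact one_pow 2
    · rw [pow_two]; exact RingEquiv.ext h2
    · rw [pow_two]; exact RingEquiv.ext h4
  have h7 := Finset.card_le_card h6
  have h8 : ({1, σ, τ} : Finset (F ≃+* F)).card = 3 := by
    rw [Finset.card_insert_of_notMem, Finset.card_insert_of_notMem, Finset.card_singleton]
    · rw [Finset.mem_singleton]; exact hne
    · rw [Finset.mem_insert, Finset.mem_singleton, not_or]
      exact ⟨fun h => h1 h.symm, fun h => h3 h.symm⟩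
  omega

variable {ι : Type} [Fintype ι] [DecidableEq ι] {F : Type*} [Field F]

/-! ### Coordinate vectors of functionals -/

/-- the coordinate vector of the functional `f · w` -/
def cv (f : (ι → F) → (ι → F) → F) (w : ι → F) : ι → F := fun j => f (Pi.single j 1) w

theorem cv_dot {f : (ι → F) → (ι → F) → F} (ha : ∀ x y v, f (x + y) v = f x v + f y v)
    (hs : ∀ (c : F) (x v : ι → F), f (c • x) v = c * f x v) (w u : ι → F) : cv f w ⬝ᵥ u = f u w := by
  let L : (ι → F) →ₗ[F] F :=
    { toFun := fun x => f x w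
      map_add' := fun x y => ha x y w
      map_smul' := fun c x => hs c x w }
  have h1 : f u w = L u := rfl
  rw [h1]
  conv_rhs => rw [pi_eq_sum_univ u, map_sum]
  unfold dotProduct cv
  refine Finset.sum_congr rfl fun j _ => ?_
  rw [map_smul, smul_eq_mul, mul_comm]
  congr 1
  have h2 : (Pi.single j 1 : ι → F) = fun j_1 => if j = j_1 then (1 : F) else 0 := by
    funext i
    simp [Pi.single_apply, eq_comm]
  rw [← h2]
  rfl

theorem fixesForm_singleton {A : Matrix ι ι F} {f : (ι → F) → (ι → F) → F} :
    FixesForm {A} f ↔ ∀ u v, f (A *ᵥ u) (A *ᵥ v) = f u v := by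
  constructor
  · intro h u v
    exact h A rfl u v
  · rintro h _ rfl u v
    exact h u v

variable {σ : F ≃+* F} {f f' : (ι → F) → (ι → F) → F}

/-- a unitary form has a non-isotropic vector -/
theorem exists_nonisotropic (hf : IsUnitaryForm σ f) {x : ι → F} (hx : x ≠ 0) : ∃ w : ι → F, f w w ≠ 0 := by
  obtain ⟨u, -, hu⟩ := (Herm.of_unitary hf).exists_nonisotropic hf.ne_refl ⊤
    (fun y _ hy => by
      obtain ⟨z, hz⟩ := (hf.nondegenerate y hy).2
      exact ⟨z, Submodule.mem_top, hz⟩) (Submodule.mem_top (x := x)) hx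
  exact ⟨u, hu⟩

/-- **the isometries of a symplectic form do not all preserve a unitary form** -/
theorem symp_unit_false [Nonempty ι] (hf : IsUnitaryForm σ f) (hf' : IsSymplecticForm f')
    (h : ∀ x : GL ι F, FixesForm {(x : Matrix ι ι F)} f' → FixesForm {(x : Matrix ι ι F)} f) : False := by
  obtain ⟨i⟩ := ‹Nonempty ι›
  have hi0 : (Pi.single i 1 : ι → F) ≠ 0 := by
    intro h0
    have := congrFun h0 i
    simp at this
  obtain ⟨w, hw⟩ := exists_nonisotropic hf hi0
  have hF := Herm.of_unitary hf
  have hw0 : w ≠ 0 := by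
    rintro rfl
    exact hw (hF.zero_left 0)
  have hdot : ∀ u, cv f' w ⬝ᵥ u = f' u w := cv_dot hf'.bilinear.add_left hf'.bilinear.smul_left w
  have h0 : cv f' w ⬝ᵥ w = 0 := by rw [hdot, hf'.alternating]
  have h1 : FixesForm {(tv w (cv f' w) h0 : Matrix ι ι F)} f' := by
    rw [fixesForm_singleton]
    intro u v
    rw [tv_mulVec, tv_mulVec, hdot, hdot, hf'.bilinear.add_left, hf'.bilinear.add_right, hf'.bilinear.add_right,
      hf'.bilinear.smul_left, hf'.bilinear.smul_left, hf'.bilinear.smul_right, hf'.bilinear.smul_right,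
      hf'.alternating, hf'.skew w v]
    ring
  have h2 := h _ h1
  rw [fixesForm_singleton] at h2
  obtain ⟨x, hx⟩ := (hf'.nondegenerate w hw0).1
  have h3 := h2 x w
  rw [tv_mulVec, tv_mulVec, hdot, hdot, hf'.alternating, zero_smul, add_zero, hf.add_left, hf.smul_left] at h3
  have h4 : f' x w * f w w = 0 := by linear_combination h3
  rcases mul_eq_zero.1 h4 with h5 | h5
  · exact hx h5
  · exact hw h5

/-- **two unitary forms, the determinant-one isometries of the second preserve the first: proportional** -/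
theorem unit_prop [Finite F] (hn : 2 ≤ Fintype.card ι) (hf : IsUnitaryForm σ f) (hf' : IsUnitaryForm σ f')
    (h : ∀ x : GL ι F, FixesForm {(x : Matrix ι ι F)} f' → Matrix.GeneralLinearGroup.det x = 1 →
      FixesForm {(x : Matrix ι ι F)} f) : ∃ c : F, c ≠ 0 ∧ ∀ x y, f x y = c * f' x y := by
  have hF := Herm.of_unitary hf
  have hF' := Herm.of_unitary hf'
  obtain ⟨e, he0, he⟩ := exists_trace_zero hf.involutive hf.ne_refl
  have key : ∀ w, f' w w = 0 → f w w = 0 := by
    intro w hw
    by_cases hw0 : w = 0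
    · rw [hw0, hF.zero_left]
    have hdot : ∀ u, cv f' w ⬝ᵥ u = f' u w := cv_dot hf'.add_left hf'.smul_left w
    have h0 : cv f' w ⬝ᵥ (e • w) = 0 := by rw [hdot, hf'.smul_left, hw, mul_zero]
    have h1 : FixesForm {(tv (e • w) (cv f' w) h0 : Matrix ι ι F)} f' := by
      rw [fixesForm_singleton]
      intro x y
      rw [tv_mulVec, tv_mulVec, hdot, hdot, hF'.add_left, hF'.add_right, hF'.add_right,
        hF'.smul_left, hF'.smul_left, hF'.smul_left, hF'.smul_left, hF'.smul_right, hF'.smul_right,
        hF'.smul_right, hF'.smul_right, hw, he, hF'.herm w y]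
      ring
    have hdet : Matrix.GeneralLinearGroup.det (tv (e • w) (cv f' w) h0) = 1 := by
      have h2 := tv_mem_specialLinear _ _ h0
      rw [mem_specialLinear_iff] at h2
      apply Units.ext
      exact h2
    have h2 := h _ h1 hdet
    rw [fixesForm_singleton] at h2
    obtain ⟨x, hx⟩ := (hf'.nondegenerate w hw0).1
    have h3 := h2 x w
    rw [tv_mulVec, tv_mulVec, hdot, hdot, hw, zero_smul, add_zero, hF.add_left, hF.smul_left, hF.smul_left] at h3
    have h4 : f' x w * (e * f w w) = 0 := by linear_combination h3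
    rcases mul_eq_zero.1 h4 with h5 | h5
    · exact absurd h5 hx
    · rcases mul_eq_zero.1 h5 with h6 | h6
      · exact absurd h6 he0
      · exact h6
  obtain ⟨c, -, hc⟩ := hF'.prop_of_isotropic hF hf.ne_refl (fun x hx => (hf'.nondegenerate x hx).2) hn key
  refine ⟨c, ?_, hc⟩
  rintro rfl
  obtain ⟨i, -⟩ := Fintype.exists_pair_of_one_lt_card (show 1 < Fintype.card ι by omega)
  have hi0 : (Pi.single i 1 : ι → F) ≠ 0 := by
    intro h0
    have := congrFun h0 i
    simp at this
  obtain ⟨y, hy⟩ := (hf.nondegenerate _ hi0).2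
  rw [hc, zero_mul] at hy
  exact hy rfl

/-- **`Ω` does not preserve a unitary form** -/
theorem omega_unit_false [Finite F] (hn : 5 ≤ Fintype.card ι) (hf : IsUnitaryForm σ f) {Q : (ι → F) → F}
    (hQ : IsNondegenerateQuadraticForm Q) (h : ∀ g ∈ omegaGL Q, FixesForm {(g : Matrix ι ι F)} f) : False := by
  have hF := Herm.of_unitary hf
  have hG := good_qf hQ hn
  obtain ⟨e, he0, he⟩ := exists_trace_zero hf.involutive hf.ne_refl
  obtain ⟨t, ht⟩ := exists_trace_one hf.involutive hf.ne_refl
  -- the diagonal of `f` depends only on `Q`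
  have hval : ∀ v v' : ι → F, v ≠ 0 → v' ≠ 0 → Q v = Q v' → f v v = f v' v' := by
    intro v v' hv hv' hvv
    obtain ⟨g, hg, rfl⟩ := exists_trans hQ hn hv hv' hvv
    exact (fixesForm_singleton.1 (h g hg) v v).symm
  have hQs : ∀ (c : F) (v : ι → F), Q (c • v) = c ^ 2 * Q v := hQ.smul
  have hQa : ∀ u v : ι → F, Q (u + v) = Q u + Q v + polar Q u v := fun u v => by
    rw [polar]; ring
  have hpa : ∀ (c : F) (u v : ι → F), polar Q u (c • v) = c * polar Q u v := hQ.polar_bilinear.smul_right
  obtain ⟨x, y, hxy⟩ := hG.exists_hyp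
  obtain ⟨z, w, hzw, hxz, hxw, hyz, hyw⟩ := hG.exists_hyp2 hxy
  have hx : Q x = 0 := hxy.left
  have hy : Q y = 0 := hxy.right
  have hz : Q z = 0 := hzw.left
  have hx0 : x ≠ 0 := hxy.left_ne
  have hy0 : y ≠ 0 := hxy.right_ne
  have hz0 : z ≠ 0 := hzw.left_ne
  have hpxy : polar Q x y = 1 := hxy.pair
  have hpxz : polar Q x z = 0 := hxz
  have hpyz : polar Q y z = 0 := hyz
  -- the vectors `x + a z`
  have hne : ∀ a : F, x + a • z ≠ 0 := by
    intro a ha
    have h1 : polar Q y (x + a • z) = 1 := by
      rw [hQ.polar_bilinear.add_right, hpa, hpyz, mul_zero, add_zero, polar_comm, hpxy]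
    rw [ha] at h1
    have h2 : polar Q y (0 : ι → F) = 0 := by
      have := hpa 0 y 0
      rwa [zero_smul, zero_mul] at this
    rw [h2] at h1
    exact zero_ne_one h1
  have hsing : ∀ a : F, f (x + a • z) (x + a • z) = f x x := by
    intro a
    apply hval _ _ (hne a) hx0
    rw [hQa, hQs, hpa, hx, hz, hpxz]
    ring
  have hzx : f z z = f x x := hval _ _ hz0 hx0 (by rw [hz, hx])
  have hexp : ∀ (u v : ι → F) (a : F), f (u + a • v) (u + a • v) =
      f u u + a * σ a * f v v + (σ a * f u v + σ (σ a * f u v)) := by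
    intro u v a
    rw [hF.add_left, hF.add_right, hF.add_right, hF.smul_left, hF.smul_left, hF.smul_right, hF.smul_right,
      map_mul, hf.involutive, hF.herm v u]
    ring
  -- singular vectors are isotropic
  have hxx : f x x = 0 := by
    by_contra hne0
    have h1 : ∀ a : F, a * σ a * f x x + (σ a * f x z + σ (σ a * f x z)) = 0 := by
      intro a
      have h2 := hexp x z a
      rw [hsing, hzx] at h2
      linear_combination -h2
    by_cases hxz0 : f x z = 0
    · have h2 := h1 1
      rw [hxz0, map_one, mul_zero, map_zero] at h2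
      apply hne0
      linear_combination h2
    · -- `a` with `σ a f(x,z) = e`
      have h2 := h1 (σ (e / f x z))
      rw [hf.involutive, div_mul_cancel₀ _ hxz0, he, add_neg_cancel, add_zero] at h2
      rcases mul_eq_zero.1 h2 with h3 | h3
      · have h4 : e / f x z ≠ 0 := div_ne_zero he0 hxz0
        rcases mul_eq_zero.1 h3 with h5 | h5
        · exact h4 ((map_eq_zero σ).1 h5)
        · exact h4 h5
      · exact hne0 h3
  have hyy : f y y = 0 := by rw [hval y x hy0 hx0 (by rw [hy, hx]), hxx]
  set κ := f x y with hκ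
  -- `f (x + a y) (x + a y) = Tr (σ a κ)`
  have hne2 : ∀ a : F, x + a • y ≠ 0 := by
    intro a ha
    have h1 : polar Q y (x + a • y) = 1 := by
      have h3 : polar Q y y = 0 := hxy.polar_right
      rw [hQ.polar_bilinear.add_right, hpa, h3, mul_zero, add_zero, polar_comm, hpxy]
    rw [ha] at h1
    have h2 : polar Q y (0 : ι → F) = 0 := by
      have := hpa 0 y 0
      rwa [zero_smul, zero_mul] at this
    rw [h2] at h1
    exact zero_ne_one h1
  have hQxy : ∀ a : F, Q (x + a • y) = a := by
    intro a
    rw [hQa, hQs, hpa, hx, hy, hpxy]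
    ring
  have hfxy : ∀ a : F, f (x + a • y) (x + a • y) = σ a * κ + σ (σ a * κ) := by
    intro a
    rw [hexp, hxx, hyy]
    ring
  -- all vectors
  have hall : ∀ v : ι → F, f v v = σ (Q v) * κ + σ (σ (Q v) * κ) := by
    intro v
    by_cases hv : v = 0
    · have hQ0 : Q (0 : ι → F) = 0 := by
        have := hQs 0 0
        rw [zero_smul] at this
        rw [this]
        ring
      rw [hv, hF.zero_left, hQ0, map_zero, zero_mul, map_zero, add_zero]
    · rw [← hfxy]
      exact hval _ _ hv (hne2 _) (hQxy _).symm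
  -- scaling
  have hscale : ∀ c b : F, σ (c ^ 2 * b) * κ + σ (σ (c ^ 2 * b) * κ) = c * σ c * (σ b * κ + σ (σ b * κ)) := by
    intro c b
    have h1 := hall (c • (x + b • y))
    rw [hQs, hQxy, hF.smul_left, hF.smul_right, hfxy] at h1
    linear_combination -h1
  by_cases hκ0 : κ = 0
  · -- then `f` vanishes
    have hdiag : ∀ v : ι → F, f v v = 0 := by
      intro v
      rw [hall, hκ0, mul_zero, map_zero, add_zero]
    obtain ⟨w', hw'⟩ := exists_nonisotropic hf hx0
    exact hw' (hdiag w')
  · -- `(σ c)^2 = c^2`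
    have hsq : ∀ c : F, σ c ^ 2 = c ^ 2 := by
      intro c
      have h1 := hscale c (σ (e / κ))
      have h2 : σ (c ^ 2 * σ (e / κ)) * κ = σ c ^ 2 * e := by
        rw [map_mul, map_pow, hf.involutive, mul_assoc, div_mul_cancel₀ _ hκ0]
      have h3 : σ (σ (e / κ)) * κ = e := by rw [hf.involutive, div_mul_cancel₀ _ hκ0]
      rw [h2, h3, map_mul, map_pow, hf.involutive, he] at h1
      have h4 : (σ c ^ 2 - c ^ 2) * e = 0 := by linear_combination h1
      exact sub_eq_zero.1 ((mul_eq_zero.1 h4).resolve_right he0)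
    apply hf.ne_refl
    apply RingEquiv.ext
    intro c
    rw [RingEquiv.refl_apply]
    by_cases h2 : (2 : F) = 0
    · have h3 : (σ c - c) ^ 2 = 0 := by
        have h4 := hsq c
        linear_combination h4 + (c ^ 2 - c * σ c) * h2
      exact sub_eq_zero.1 (pow_eq_zero_iff two_ne_zero |>.1 h3)
    · have h3 := hsq (c + 1)
      rw [map_add, map_one] at h3
      have h4 : (2 : F) * (σ c - c) = 0 := by linear_combination h3 - hsq c
      exact sub_eq_zero.1 ((mul_eq_zero.1 h4).resolve_left h2)

end Cfsg.Agent.H89.Cov
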